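import Groth.Agent.EtGmH1.Hilbert90
import Groth.Agent.EtLC12.EtZarCompare
import Groth.Agent.EtLC12.ZarLift
import Groth.Agent.PicH1Lib.Main

/-!
# `H¹(X_et, G_m)` is the Picard group
-/

set_option autoImplicit false
set_option backward.isDefEq.respectTransparency false
set_option backward.isDefEq.respectTransparency.types false

universe u

open CategoryTheory CategoryTheory.Limits AlgebraicGeometry Opposite TopologicalSpace

noncomputable section

namespace Groth.Agent.EtGmH1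

open Groth.Agent.EtFound Groth.Agent.EtLC12 Groth.Agent.Adeq2Lib

variable {X : Scheme.{u}}

/-- Sections modulo `G_m` over an open lift on a neighbourhood of each point. -/
theorem exists_lift_open_near {S : ShortComplex (EtCoh.Ab X)} (hS : S.ShortExact) (e : S.X₁ ≅ EtCoh.Gm X)
    {U : X.Opens} (z : S.X₃.obj.obj (op ((EtZar.zarToEt X).obj U))) {x : X} (hx : x ∈ U) :
    ∃ (W : X.Opens) (hW : W ≤ U), x ∈ W ∧ ∃ y : S.X₂.obj.obj (op ((EtZar.zarToEt X).obj W)),
      S.g.hom.app (op ((EtZar.zarToEt X).obj W)) y = S.X₃.obj.map ((EtZar.zarToEt X).map (homOfLE hW)).op z := by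
  obtain ⟨V, hV, hxV, hVU⟩ : ∃ V : X.Opens, IsAffineOpen V ∧ x ∈ V ∧ V ≤ U :=
    (Opens.isBasis_iff_nbhd.1 X.isBasis_affineOpens) hx
  haveI : IsAffine ((EtZar.zarToEt X).obj V).left := hV
  let iV := (EtZar.zarToEt X).map (homOfLE hVU)
  obtain ⟨O, hxO, hO⟩ := exists_lift_near hS e (S.X₃.obj.map iV.op z) (⟨x, hxV⟩ : V.toScheme)
  have hWV : V.ι ''ᵁ O ≤ V := by
    rintro _ ⟨p, -, rfl⟩
    exact p.2
  let W := V.ι ''ᵁ O
  obtain ⟨y, hy⟩ := hO ((EtZar.zarToEt X).obj W) ((EtZar.zarToEt X).map (homOfLE hWV)) fun w => by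
    obtain ⟨p, hp, hpw⟩ := w.2
    have : ((EtZar.zarToEt X).map (homOfLE hWV)).left.base w = p :=
      Subtype.ext ((Scheme.homOfLE_apply (U := W) hWV w).trans hpw.symm)
    rw [this]
    exact hp
  refine ⟨W, hWV.trans hVU, ⟨⟨x, hxV⟩, hxO, rfl⟩, y, hy.trans ?_⟩
  rw [map_map, ← Functor.map_comp]
  rfl

variable [EtZar.ZarCont X]

/-- Restriction to the Zariski site keeps presentations of `G_m` exact. -/
theorem shortExact_resZar {S : ShortComplex (EtCoh.Ab X)} (hS : S.ShortExact) (e : S.X₁ ≅ EtCoh.Gm X) :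
    (S.map (EtZar.resZar X)).ShortExact := by
  haveI := hS.mono_f
  haveI hm : Mono ((EtZar.resZar X).map S.f) := inferInstance
  have hepi : Epi ((EtZar.resZar X).map S.g) := by
    refine ⟨fun {H} p q hpq => ?_⟩
    ext U s
    refine ZarFl.eq_of_coverZ H (I := { V : X.Opens // ∃ hV : V ≤ U.unop,
      ∃ y : S.X₂.obj.obj (op ((EtZar.zarToEt X).obj V)), S.g.hom.app (op ((EtZar.zarToEt X).obj V)) y =
        S.X₃.obj.map ((EtZar.zarToEt X).map (homOfLE hV)).op s }) (fun V => V.1) (fun V => V.2.choose)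
      (fun x hx => ?_) _ _ fun V => ?_
    · obtain ⟨W, hW, hxW, hy⟩ := exists_lift_open_near hS e (U := U.unop) s hx
      exact ⟨⟨W, hW, hy⟩, hxW⟩
    · obtain ⟨y, hy⟩ := V.2.choose_spec
      rw [← ZarFl.rz_nat, ← ZarFl.rz_nat]
      rw [show ZarFl.rz ((EtZar.resZar X).obj S.X₃) V.2.choose s =
        S.g.hom.app (op ((EtZar.zarToEt X).obj V.1)) y from hy.symm]
      exact ConcreteCategory.congr_hom
        (congrArg (fun α : (EtZar.resZar X).obj S.X₂ ⟶ H => α.hom.app (op V.1)) hpq) y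
  exact { exact := hS.exact.map_of_mono_of_preservesKernel _ hS.mono_f inferInstance
          mono_f := hm
          epi_g := hepi }

/-- Restricted units are the units. -/
def resGmIso : (EtZar.resZar X).obj (EtCoh.Gm X) ≅ (ZarLift.lift X).obj (UnitsSh.unitsAb X) :=
  (fullyFaithfulSheafToPresheaf _ _).preimageIso (NatIso.ofComponents
    (fun U => (AddCommGrpCat.uliftFunctor.{u + 1, u}).mapIso
      (UnitsSh.unitsFunctor.mapIso (Scheme.Opens.topIso U.unop)))
    fun {U V} i => by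
      ext x
      refine congrArg ULift.up (Units.ext ?_)
      have h : (X.homOfLE (leOfHom i.unop)).appTop ≫ (Scheme.Opens.topIso V.unop).hom =
          (Scheme.Opens.topIso U.unop).hom ≫ X.presheaf.map i := by
        rw [Scheme.homOfLE_appTop]
        simp only [Scheme.Opens.topIso_hom]
        dsimp [Scheme.Opens.toScheme_presheaf_obj]
        rw [← Functor.map_comp, ← Functor.map_comp]
        rfl
      exact congrArg (fun t => t.hom (Units.val (Additive.toMul
        (show ULift.{u + 1} (Additive Γ(((EtZar.zarToEt X).obj U.unop).left, ⊤)ˣ) from x).down))) h)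

variable (X) in
/-- `H¹` of `G_m` is the same on both sites. -/
theorem nonempty_H1_zar : Nonempty (EtCoh.H X (EtCoh.Gm X) 1 ≃+ EtZar.H ((EtZar.resZar X).obj (EtCoh.Gm X)) 1) := by
  let Q := Classical.arbitrary (InjectivePresentation (EtCoh.Gm X))
  have hE := Q.shortExact_shortComplex
  haveI hI : Injective Q.shortComplex.X₂ := Q.injective
  have hE' := shortExact_resZar hE (Iso.refl _)
  haveI : ∀ k, Subsingleton (Sheaf.H Q.shortComplex.X₂ (k + 1)) := fun k =>
    subsingleton_of_forall_eq 0 fun x => Abelian.Ext.eq_zero_of_injective x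
  haveI : ∀ k, Subsingleton (Sheaf.H (Q.shortComplex.map (EtZar.resZar X)).X₂ (k + 1)) := fun k =>
    ZarFl.subsingleton_H_of_flq k _ (EtZarCompare.flq_resZar_injective Q.shortComplex.X₂)
  obtain ⟨φ, hφ, hk⟩ := ZarCmp.h1_pres (EtCore.topIsTerminal X) _ hE
  obtain ⟨φ', hφ', hk'⟩ := ZarCmp.h1_pres (T := (⊤ : X.Opens)) (IsTerminal.ofUnique _) _ hE'
  let sec : ∀ G : EtCoh.Ab X, G.obj.obj (op (EtCoh.top X)) ≃+ ((EtZar.resZar X).obj G).obj.obj (op (⊤ : X.Opens)) :=
    fun G => (G.obj.mapIso (EtZarCompare.topIso (X := X)).op).addCommGroupIsoToAddEquiv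
  have hsec : ∀ {G G' : EtCoh.Ab X} (f : G ⟶ G') (x : G.obj.obj (op (EtCoh.top X))),
      (((EtZar.resZar X).map f).hom.app (op (⊤ : X.Opens))).hom (sec G x) =
        sec G' ((f.hom.app (op (EtCoh.top X))).hom x) :=
    fun f x => (NatTrans.naturality_apply f.hom (EtZarCompare.topIso (X := X)).op.hom x).symm.symm
  refine ZarCmp.quot_congr φ hφ φ' hφ' (sec Q.shortComplex.X₃) fun y => (hk y).trans (Iff.trans ⟨?_, ?_⟩ (hk' _).symm)
  · rintro ⟨x, rfl⟩
    exact ⟨sec Q.shortComplex.X₂ x, hsec _ _⟩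
  · rintro ⟨x, hx⟩
    refine ⟨(sec Q.shortComplex.X₂).symm x, (sec Q.shortComplex.X₃).injective ?_⟩
    refine (hsec _ _).symm.trans ?_
    rw [AddEquiv.apply_symm_apply]
    exact hx

omit [EtZar.ZarCont X] in
variable (X) in
/-- `H¹(X_et, G_m) = Pic X`. -/
theorem nonempty_addEquiv [PicGrp.Law X] :
    Nonempty (Additive (PicLoc.PicSet X) ≃+ EtCoh.H X (EtCoh.Gm X) 1) := by
  haveI := EtZarCompare.zarCont X
  obtain ⟨e₁⟩ := PicH1.nonempty_addEquiv X
  obtain ⟨e₂⟩ := ZarLift.nonempty_H_addEquiv (X := X) (UnitsSh.unitsAb X) 1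
  obtain ⟨e₃⟩ := nonempty_H1_zar X
  exact ⟨((e₁.trans e₂).trans
    ((Sheaf.functorH _ 1).mapIso (resGmIso (X := X)).symm).addCommGroupIsoToAddEquiv).trans e₃.symm⟩

end Groth.Agent.EtGmH1
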