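import Groth.Agent.EtGmH1.Compare
import Groth.Agent.S8536

/-!
# Classes in `H¹(X_et, G_m)` vanish Zariski locally
-/

set_option autoImplicit false
set_option backward.isDefEq.respectTransparency false
set_option backward.isDefEq.respectTransparency.types false

universe u

open CategoryTheory CategoryTheory.Limits AlgebraicGeometry Opposite TopologicalSpace Abelian

noncomputable section

namespace Groth.Agent.EtGmH1

variable {X : Scheme.{u}}

/-- The open as an object over the final one. -/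
def openToTop (U : X.Opens) : (EtZar.zarToEt X).obj U ⟶ EtCoh.top X :=
  MorphismProperty.Over.homMk U.ι (Category.comp_id _) trivial

theorem isIso_bc_openToTop (U : X.Opens) : IsIso ((EtCoh.bc U.ι).map (openToTop U)) := by
  let M := (EtCoh.bc U.ι).map (openToTop U)
  let s : (EtCoh.bc U.ι).obj (EtCoh.top X) ⟶ (EtCoh.bc U.ι).obj ((EtZar.zarToEt X).obj U) :=
    MorphismProperty.Over.homMk
      (pullback.lift (pullback.snd (EtCoh.top X).hom U.ι) (pullback.snd (EtCoh.top X).hom U.ι) rfl)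
      (pullback.lift_snd _ _ _) trivial
  refine ⟨s, ?_, (EtCore.bcTopIsTerminal U.ι).hom_ext _ _⟩
  have hsnd : (M ≫ s).left ≫ pullback.snd ((EtZar.zarToEt X).obj U).hom U.ι =
      pullback.snd ((EtZar.zarToEt X).obj U).hom U.ι := MorphismProperty.Over.w (M ≫ s)
  refine MorphismProperty.Over.Hom.ext (pullback.hom_ext ?_ ?_)
  · refine (cancel_mono U.ι).1 ?_
    have hc := pullback.condition (f := ((EtZar.zarToEt X).obj U).hom) (g := U.ι)
    calc ((M ≫ s).left ≫ pullback.fst _ _) ≫ U.ι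
        = (M ≫ s).left ≫ pullback.snd ((EtZar.zarToEt X).obj U).hom U.ι ≫ U.ι := by
          rw [Category.assoc]; exact congrArg (_ ≫ ·) hc
      _ = pullback.snd ((EtZar.zarToEt X).obj U).hom U.ι ≫ U.ι := by rw [← Category.assoc, hsnd]
      _ = (pullback.fst _ _ ≫ ((EtZar.zarToEt X).obj U).hom) := hc.symm
      _ = (𝟙 _ ≫ pullback.fst _ _) ≫ U.ι := by rw [Category.id_comp]; rfl
  · exact hsnd.trans (Category.id_comp _).symm

/-- A map out of the constant sheaf lifts after pullback to an open on which its section lifts. -/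
theorem exists_lift_pull {A B : EtCoh.Ab X} (g : A ⟶ B) (φ : EtCoh.const X ℤ ⟶ B) (U : X.Opens)
    (y : A.obj.obj (op ((EtZar.zarToEt X).obj U)))
    (hy : g.hom.app (op ((EtZar.zarToEt X).obj U)) y = B.obj.map (openToTop U).op
      ((AddCommGrpCat.uliftZMultiplesAddEquiv _) ((EtCore.constAdj X).homEquiv _ _ φ))) :
    ∃ α : (EtCoh.pull U.ι).obj (EtCoh.const X ℤ) ⟶ (EtCoh.pull U.ι).obj A,
      α ≫ (EtCoh.pull U.ι).map g = (EtCoh.pull U.ι).map φ := by
  let P := EtCoh.pull U.ι
  let adj := EtCoh.pullPushAdj U.ι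
  haveI := isIso_bc_openToTop U
  let W := (EtZar.zarToEt X).obj U
  let m := openToTop U
  let FA := (EtCoh.push U.ι).obj (P.obj A)
  let FB := (EtCoh.push U.ι).obj (P.obj B)
  haveI hA : IsIso (FA.obj.map m.op) := inferInstanceAs (IsIso ((P.obj A).obj.map ((EtCoh.bc U.ι).map m).op))
  haveI hB : IsIso (FB.obj.map m.op) := inferInstanceAs (IsIso ((P.obj B).obj.map ((EtCoh.bc U.ι).map m).op))
  obtain ⟨s, hs⟩ := (ConcreteCategory.bijective_of_isIso (FA.obj.map m.op)).2 ((adj.unit.app A).hom.app (op W) y)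
  let z := (AddCommGrpCat.uliftZMultiplesAddEquiv _) ((EtCore.constAdj X).homEquiv _ _ φ)
  have hsz : ((EtCoh.push U.ι).map (P.map g)).hom.app (op (EtCoh.top X)) s =
      (adj.unit.app B).hom.app (op (EtCoh.top X)) z := by
    refine (ConcreteCategory.bijective_of_isIso (FB.obj.map m.op)).1 ?_
    refine (NatTrans.naturality_apply ((EtCoh.push U.ι).map (P.map g)).hom m.op s).symm.trans ?_
    rw [hs]
    refine (congrArg (fun q : A ⟶ FB => q.hom.app (op W) y) (adj.unit.naturality g)).symm.trans ?_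
    show (adj.unit.app B).hom.app (op W) (g.hom.app (op W) y) = _
    rw [hy]
    exact NatTrans.naturality_apply (adj.unit.app B).hom m.op z
  let α' : EtCoh.const X ℤ ⟶ FA :=
    ((EtCore.constAdj X).homEquiv _ _).symm ((AddCommGrpCat.uliftZMultiplesAddEquiv _).symm s)
  have hα : α' ≫ (EtCoh.push U.ι).map (P.map g) = φ ≫ adj.unit.app B := by
    apply ((EtCore.constAdj X).homEquiv _ _).injective
    rw [Adjunction.homEquiv_naturality_right, Adjunction.homEquiv_naturality_right, Equiv.apply_symm_apply]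
    apply (AddCommGrpCat.uliftZMultiplesAddEquiv _).injective
    refine Eq.trans ?_ hsz
    exact congrArg (((EtCoh.push U.ι).map (P.map g)).hom.app (op (EtCoh.top X)))
      ((AddCommGrpCat.uliftZMultiplesAddEquiv _).apply_symm_apply s)
  refine ⟨(adj.homEquiv _ _).symm α', ?_⟩
  rw [← Adjunction.homEquiv_naturality_right_symm, hα, Equiv.symm_apply_eq, Adjunction.homEquiv_unit]
  exact adj.unit.naturality φ

theorem exists_open_Hpull_eq_zero (c : EtCoh.H X (EtCoh.Gm X) 1) (x : X) :
    ∃ U : X.Opens, x ∈ U ∧ ∀ [PreservesFiniteLimits (EtCoh.pull U.ι)], EtCore.Hpull U.ι (EtCoh.Gm X) 1 c = 0 := by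
  let Q := Classical.arbitrary (InjectivePresentation (EtCoh.Gm X))
  have hS := Q.shortExact_shortComplex
  haveI : Injective Q.shortComplex.X₂ := Q.injective
  obtain ⟨z, rfl⟩ := Ext.covariant_sequence_exact₁ _ hS c (Ext.eq_zero_of_injective _) (rfl : 0 + 1 = 1)
  obtain ⟨φ, rfl⟩ := (Ext.mk₀_bijective _ _).2 z
  let z' := Q.shortComplex.X₃.obj.map (openToTop (⊤ : X.Opens)).op
    ((AddCommGrpCat.uliftZMultiplesAddEquiv _) ((EtCore.constAdj X).homEquiv _ _ φ))
  obtain ⟨U, hU, hxU, y, hy⟩ := exists_lift_open_near hS (Iso.refl _) z' (x := x) trivial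
  refine ⟨U, hxU, fun {inst} => ?_⟩
  have e : (EtZar.zarToEt X).map (homOfLE hU) ≫ openToTop (⊤ : X.Opens) = openToTop U :=
    (EtCore.topIsTerminal X).hom_ext _ _
  obtain ⟨α, hα⟩ := exists_lift_pull Q.shortComplex.g φ U y (hy.trans (by
    show Q.shortComplex.X₃.obj.map _ (Q.shortComplex.X₃.obj.map _ _) = _
    rw [map_map, e]))
  refine (S8536.Hpull_comp_extClass U.ι hS 0 (Ext.mk₀ φ)).trans ?_
  rw [EtMVLib.Hpull_apply, Ext.mapExactFunctor_mk₀, Ext.mk₀_comp_mk₀, ← hα, ← Category.assoc,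
    ← Ext.mk₀_comp_mk₀, Ext.comp_assoc_of_second_deg_zero]
  exact (congrArg (fun q => (Ext.mk₀ _).comp q (zero_add 1))
    (hS.map_of_exact (EtCoh.pull U.ι)).comp_extClass).trans (Ext.comp_zero _ _ _ _ _)

end Groth.Agent.EtGmH1
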