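import Groth.Agent.DescLib.AmitsurAll
import Mathlib.RingTheory.Flat.Basic
import Mathlib.RingTheory.Ideal.Operations

/-!
# Hilbert 90 for faithfully flat covers, algebraic part
-/

set_option autoImplicit false
set_option backward.isDefEq.respectTransparency false
set_option backward.isDefEq.respectTransparency.types false

universe u

open TensorProduct

namespace Groth.Agent.EtGmH1

open Groth.Agent.DescLib

variable {A B : Type u} [CommRing A] [CommRing B] [Algebra A B]

/-- The three projections `B ⊗ B → B ⊗ (B ⊗ B)`. -/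
noncomputable abbrev p01 : B ⊗[A] B →ₐ[A] B ⊗[A] (B ⊗[A] B) :=
  Algebra.TensorProduct.map (AlgHom.id A B) Algebra.TensorProduct.includeLeft

/-- The three projections `B ⊗ B → B ⊗ (B ⊗ B)`. -/
noncomputable abbrev p02 : B ⊗[A] B →ₐ[A] B ⊗[A] (B ⊗[A] B) :=
  Algebra.TensorProduct.map (AlgHom.id A B) Algebra.TensorProduct.includeRight

/-- The three projections `B ⊗ B → B ⊗ (B ⊗ B)`. -/
noncomputable abbrev p12 : B ⊗[A] B →ₐ[A] B ⊗[A] (B ⊗[A] B) :=
  Algebra.TensorProduct.includeRight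

/-- The descended module of a multiplicative cocycle generates the unit ideal. -/
theorem span_descended_eq_top [Module.Flat A B] (u : B ⊗[A] B) (hu : IsUnit u)
    (hco : p01 u * p12 u = p02 u) :
    Ideal.span {m : B | m ⊗ₜ[A] (1 : B) = u * ((1 : B) ⊗ₜ[A] m)} = ⊤ := by
  let inL : B →ₗ[A] B ⊗[A] B := (Algebra.TensorProduct.includeLeft : B →ₐ[A] B ⊗[A] B).toLinearMap
  let inR : B →ₗ[A] B ⊗[A] B := (Algebra.TensorProduct.includeRight : B →ₐ[A] B ⊗[A] B).toLinearMap
  let θ : B →ₗ[A] B ⊗[A] B := inL - (LinearMap.mulLeft A u).comp inR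
  have hθ : ∀ m, θ m = m ⊗ₜ[A] (1 : B) - u * ((1 : B) ⊗ₜ[A] m) := fun m => rfl
  have hex : Function.Exact (θ.ker.subtype.lTensor B) (θ.lTensor B) :=
    Module.Flat.lTensor_exact B (LinearMap.exact_subtype_ker_map θ)
  have hl : ∀ z, θ.lTensor B z = p01 z - p12 u * p02 z := fun z => by
    induction z using TensorProduct.induction_on with
    | zero => simp
    | tmul x b =>
      rw [LinearMap.lTensor_tmul, hθ, tmul_sub]
      simp only [Algebra.TensorProduct.map_tmul, AlgHom.id_apply, Algebra.TensorProduct.includeLeft_apply,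
        Algebra.TensorProduct.includeRight_apply, Algebra.TensorProduct.tmul_mul_tmul, one_mul]
    | add a b ha hb =>
      simp only [map_add, ha, hb, mul_add]
      abel
  obtain ⟨w, hw⟩ := hu.exists_right_inv
  have hker : θ.lTensor B w = 0 := by
    have e01 : p01 u * p01 w = 1 := by rw [← map_mul, hw, map_one]
    have e02 : p02 u * p02 w = 1 := by rw [← map_mul, hw, map_one]
    rw [hl, sub_eq_zero]
    calc p01 w = p01 w * (p02 u * p02 w) := by rw [e02, mul_one]
      _ = (p01 u * p01 w) * (p12 u * p02 w) := by rw [← hco]; ring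
      _ = p12 u * p02 w := by rw [e01, one_mul]
  obtain ⟨z, hz⟩ := (hex w).1 hker
  let μ := Algebra.TensorProduct.lmul' A (S := B)
  refine Ideal.eq_top_of_isUnit_mem _ ?_ ((IsUnit.of_mul_eq_one u (by rw [mul_comm]; exact hw)).map μ)
  rw [← hz]
  clear hz
  induction z using TensorProduct.induction_on with
  | zero => simp
  | tmul x m =>
    rw [LinearMap.lTensor_tmul, Algebra.TensorProduct.lmul'_apply_tmul]
    exact Ideal.mul_mem_left _ _ (Ideal.subset_span (sub_eq_zero.1 (LinearMap.mem_ker.1 m.2)))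
  | add a b ha hb =>
    rw [map_add, map_add]
    exact Ideal.add_mem _ ha hb

/-- The first projection as a lift. -/
theorem lift_01 (t : B ⊗[A] B) :
    AmitsurAll.lift (R := A) (A := B) (n := 1) (S := AmitsurAll.T A B 2)
      (fun k => AmitsurAll.incl A B 2 (![0, 1] k)) t = p01 t := by
  refine DFunLike.congr_fun (g := (p01 : AmitsurAll.T A B 1 →ₐ[A] AmitsurAll.T A B 2))
    (AmitsurAll.hom_ext fun j a => ?_) t
  rw [AmitsurAll.lift_incl]
  fin_cases j
  · show a ⊗ₜ[A] ((1 : B) ⊗ₜ[A] (1 : B)) = p01 (a ⊗ₜ[A] (1 : B))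
    simp
  · show (1 : B) ⊗ₜ[A] (a ⊗ₜ[A] (1 : B)) = p01 ((1 : B) ⊗ₜ[A] a)
    simp

/-- The second projection as a lift. -/
theorem lift_02 (t : B ⊗[A] B) :
    AmitsurAll.lift (R := A) (A := B) (n := 1) (S := AmitsurAll.T A B 2)
      (fun k => AmitsurAll.incl A B 2 (![0, 2] k)) t = p02 t := by
  refine DFunLike.congr_fun (g := (p02 : AmitsurAll.T A B 1 →ₐ[A] AmitsurAll.T A B 2))
    (AmitsurAll.hom_ext fun j a => ?_) t
  rw [AmitsurAll.lift_incl]
  fin_cases j
  · show a ⊗ₜ[A] ((1 : B) ⊗ₜ[A] (1 : B)) = p02 (a ⊗ₜ[A] (1 : B))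
    simp
  · show (1 : B) ⊗ₜ[A] ((1 : B) ⊗ₜ[A] a) = p02 ((1 : B) ⊗ₜ[A] a)
    simp

/-- The third projection as a lift. -/
theorem lift_12 (t : B ⊗[A] B) :
    AmitsurAll.lift (R := A) (A := B) (n := 1) (S := AmitsurAll.T A B 2)
      (fun k => AmitsurAll.incl A B 2 (![1, 2] k)) t = p12 t := by
  refine DFunLike.congr_fun (g := (p12 : AmitsurAll.T A B 1 →ₐ[A] AmitsurAll.T A B 2))
    (AmitsurAll.hom_ext fun j a => ?_) t
  rw [AmitsurAll.lift_incl]
  fin_cases j
  · show (1 : B) ⊗ₜ[A] (a ⊗ₜ[A] (1 : B)) = p12 (a ⊗ₜ[A] (1 : B))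
    simp
  · show (1 : B) ⊗ₜ[A] ((1 : B) ⊗ₜ[A] a) = p12 ((1 : B) ⊗ₜ[A] a)
    simp

/-- The descended module generates the unit ideal, in terms of the Amitsur complex. -/
theorem span_amitsur_eq_top [Module.Flat A B] (u : AmitsurAll.T A B 1) (hu : IsUnit u)
    (hco : AmitsurAll.lift (fun k => AmitsurAll.incl A B 2 (![0, 1] k)) u *
        AmitsurAll.lift (fun k => AmitsurAll.incl A B 2 (![1, 2] k)) u =
      AmitsurAll.lift (fun k => AmitsurAll.incl A B 2 (![0, 2] k)) u) :
    Ideal.span {m : B | AmitsurAll.incl A B 1 0 m = u * AmitsurAll.incl A B 1 1 m} = ⊤ :=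
  span_descended_eq_top u hu (by
    rw [← lift_01, ← lift_12, ← lift_02]
    exact hco)

end Groth.Agent.EtGmH1
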