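import Groth.Agent.EtLC12.GaAmitsur
import Groth.Agent.EtFound.CoprodSections
import Groth.Agent.EtFound.OpenSubterminal
import Groth.Agent.EtGmH1.Algebra

/-!
# Hilbert 90: sections modulo `G_m` lift Zariski locally
-/

set_option autoImplicit false
set_option backward.isDefEq.respectTransparency false
set_option backward.isDefEq.respectTransparency.types false

universe u

open CategoryTheory CategoryTheory.Limits AlgebraicGeometry Opposite TensorProduct

noncomputable section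

namespace Groth.Agent.EtGmH1

open Groth.Agent.EtFound Groth.Agent.DescLib Groth.Agent.EtLC12

variable {X : Scheme.{u}}

/-- The underlying function of a section of `G_m`. -/
def gv {W : X.Etale} (c : (EtCoh.Gm X).obj.obj (op W)) : Γ(W.left, ⊤) :=
  ((Additive.toMul (show ULift.{u + 1} (Additive Γ(W.left, ⊤)ˣ) from c).down : Γ(W.left, ⊤)ˣ) : Γ(W.left, ⊤))

theorem gv_add {W : X.Etale} (c c' : (EtCoh.Gm X).obj.obj (op W)) : gv (c + c') = gv c * gv c' := rfl

theorem gv_zero {W : X.Etale} : gv (0 : (EtCoh.Gm X).obj.obj (op W)) = 1 := rfl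

theorem gv_map {W W' : X.Etale} (f : W' ⟶ W) (c : (EtCoh.Gm X).obj.obj (op W)) :
    gv ((EtCoh.Gm X).obj.map f.op c) = f.left.appTop (gv c) := rfl

theorem isUnit_gv {W : X.Etale} (c : (EtCoh.Gm X).obj.obj (op W)) : IsUnit (gv c) := Units.isUnit _

theorem exists_gv {W : X.Etale} {r : Γ(W.left, ⊤)} (hr : IsUnit r) :
    ∃ c : (EtCoh.Gm X).obj.obj (op W), gv c = r :=
  ⟨(ULift.up (Additive.ofMul hr.unit) : ULift.{u + 1} (Additive Γ(W.left, ⊤)ˣ)), rfl⟩

theorem gv_injective {W : X.Etale} : Function.Injective (gv (X := X) (W := W)) := fun c c' h =>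
  ULift.down_injective (Units.ext h : (show ULift.{u + 1} (Additive Γ(W.left, ⊤)ˣ) from c).down = _)

/-- Restrictions compose. -/
theorem map_map (F : EtCoh.Ab X) {U V W : X.Etale} (a : W ⟶ V) (b : V ⟶ U) (x : F.obj.obj (op U)) :
    F.obj.map a.op (F.obj.map b.op x) = F.obj.map (a ≫ b).op x := by
  rw [op_comp, Functor.map_comp]
  rfl

/-- Sections lift on one affine covering. -/
theorem exists_affine_lift {A B : EtCoh.Ab X} (φ : A ⟶ B) [Epi φ] {V : X.Etale} [IsAffine V.left]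
    (z : B.obj.obj (op V)) :
    ∃ (T : X.Etale) (g : T ⟶ V) (t : A.obj.obj (op T)),
      IsAffine T.left ∧ Surjective g.left ∧ φ.hom.app (op T) t = B.obj.map g.op z := by
  have hloc : Presheaf.IsLocallySurjective X.smallEtaleTopology φ.hom :=
    (Sheaf.isLocallySurjective_iff_epi' AddCommGrpCat.{u + 1} φ).2 inferInstance
  obtain ⟨n, W, T, g, i, hT, hg, hR, hi, hcov, hdisj⟩ :=
    AffineCartan.exists_affine_refinement _ (hloc.imageSieve_mem (U := V) z)
  choose s hs using hR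
  haveI := hi
  obtain ⟨t, ht⟩ := (bijective_sections_of_disjoint A W i hcov hdisj).2 s
  refine ⟨T, g, t, hT, hg, ?_⟩
  refine (bijective_sections_of_disjoint B W i hcov hdisj).1 (funext fun k => ?_)
  refine (NatTrans.naturality_apply φ.hom (i k).op t).symm.trans ?_
  refine (congrArg _ (congrFun ht k)).trans ((hs k).trans ?_)
  exact (map_map B (i k) g z).symm

section Formula

variable {V : X.Etale} [IsAffine V.left] (Y : Over V) [IsAffine Y.left.left] [HasFiniteProducts (Over V)]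

open GaAmitsur

theorem qπ_eq (n : ℕ) (k : Fin (n + 1)) : qπ Y n k = σ Y n ≫ Pi.π (fun _ : Fin (n + 1) => Y) k :=
  (Pi.lift_π _ _).symm

theorem secMap_τ (n : ℕ) (v : Sec (Q Y n)) : secMap (τ Y n) v = Φ Y n (qSec Y n v) := by
  have h : (τ Y n).left.left.appTop = (Scheme.ΓSpecIso _).hom ≫ CommRingCat.ofHom (Φ Y n).toRingHom := by
    show (_ ≫ Spec.map _).appTop = _
    rw [Scheme.Hom.comp_appTop, Scheme.toSpecΓ_appTop, Scheme.ΓSpecIso_naturality]
  exact congrArg (fun φ => φ.hom v) h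

/-- A family of maps to the cover factors through `Q`. -/
theorem pair_qπ {n : ℕ} {Z : Over V} (f : Fin (n + 1) → (Z ⟶ Y)) (k : Fin (n + 1)) :
    (Pi.lift f ≫ τ Y n) ≫ qπ Y n k = f k := by
  rw [qπ_eq, Category.assoc, ← Category.assoc (τ Y n), τ_σ, Category.id_comp, Pi.lift_π]

theorem secMap_pair {n : ℕ} {Z : Over V} (f : Fin (n + 1) → (Z ⟶ Y)) (v : Sec (Q Y n)) :
    secMap (Pi.lift f ≫ τ Y n) v = AmitsurAll.lift (fun k => secMap (f k)) (qSec Y n v) := by
  rw [secMap_comp, secMap_τ]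
  refine DFunLike.congr_fun (f := (secMap (Pi.lift f)).comp (Φ Y n)) (AmitsurAll.hom_ext fun k a => ?_) _
  show secMap (Pi.lift f) (Φ Y n _) = _
  rw [Φ_incl, AmitsurAll.lift_incl, ← secMap_comp, Pi.lift_π]

theorem qSec_lift (σ : Fin 2 → Fin 3) (u : AmitsurAll.T Γ(V.left, ⊤) (Sec Y) 1) :
    qSec Y 2 (AmitsurAll.lift (fun k => secMap (qπ Y 2 (σ k))) u) =
      AmitsurAll.lift (fun k => AmitsurAll.incl Γ(V.left, ⊤) (Sec Y) 2 (σ k)) u := by
  have h : (qSec Y 2).comp (AmitsurAll.lift fun k => secMap (qπ Y 2 (σ k))) =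
      AmitsurAll.lift (fun k => AmitsurAll.incl Γ(V.left, ⊤) (Sec Y) 2 (σ k)) := by
    refine AmitsurAll.hom_ext fun k a => ?_
    rw [AlgHom.comp_apply, AmitsurAll.lift_incl, AmitsurAll.lift_incl, qSec_qπ]
  exact DFunLike.congr_fun h u

end Formula

section Main

variable {S : ShortComplex (EtCoh.Ab X)} (hS : S.ShortExact) (e : S.X₁ ≅ EtCoh.Gm X)

include hS in
theorem fm_injective (W : X.Etale) : Function.Injective ((e.inv ≫ S.f).hom.app (op W)).hom :=
  haveI := hS.mono_f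
  SiteBase.sheaf_app_injective (e.inv ≫ S.f) W

theorem g_fm {W : X.Etale} (c : (EtCoh.Gm X).obj.obj (op W)) :
    S.g.hom.app (op W) ((e.inv ≫ S.f).hom.app (op W) c) = 0 :=
  congrArg (fun q : S.X₁ ⟶ S.X₃ => q.hom.app (op W) (e.inv.hom.app (op W) c)) S.zero

include hS in
theorem exists_fm {W : X.Etale} (y : S.X₂.obj.obj (op W)) (hy : S.g.hom.app (op W) y = 0) :
    ∃ c : (EtCoh.Gm X).obj.obj (op W), (e.inv ≫ S.f).hom.app (op W) c = y := by
  obtain ⟨x, hx⟩ := (SiteBase.secExact_iff S W).1 (hS.exact.map_of_mono_of_preservesKernel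
    (sheafToPresheaf X.smallEtaleTopology AddCommGrpCat.{u + 1} ⋙
      (evaluation X.Etaleᵒᵖ AddCommGrpCat.{u + 1}).obj (op W)) hS.mono_f inferInstance) y hy
  refine ⟨e.hom.hom.app (op W) x, ?_⟩
  show ((e.hom ≫ e.inv) ≫ S.f).hom.app (op W) x = y
  rw [e.hom_inv_id, Category.id_comp]
  exact hx

/-- Difference of two pullbacks of a local lift. -/
def IsDiff {T W : X.Etale} (t : S.X₂.obj.obj (op T)) (a b : W ⟶ T) (c : (EtCoh.Gm X).obj.obj (op W)) : Prop :=
  (e.inv ≫ S.f).hom.app (op W) c = S.X₂.obj.map a.op t - S.X₂.obj.map b.op t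

variable {e} in
theorem IsDiff.res {T W W' : X.Etale} {t : S.X₂.obj.obj (op T)} {a b : W ⟶ T}
    {c : (EtCoh.Gm X).obj.obj (op W)} (h : IsDiff e t a b c) (k : W' ⟶ W) :
    IsDiff e t (k ≫ a) (k ≫ b) ((EtCoh.Gm X).obj.map k.op c) := by
  unfold IsDiff at h ⊢
  rw [← map_map, ← map_map, ← map_sub, ← h]
  exact NatTrans.naturality_apply (e.inv ≫ S.f).hom k.op c

variable {V T : X.Etale} [IsAffine V.left] [IsAffine T.left] (g : T ⟶ V) (z : S.X₃.obj.obj (op V))
  (t : S.X₂.obj.obj (op T)) (ht : S.g.hom.app (op T) t = S.X₃.obj.map g.op z)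

include hS ht in
theorem exists_isDiff {W : X.Etale} (a b : W ⟶ T) (hab : a ≫ g = b ≫ g) : ∃ c, IsDiff e t a b c := by
  refine exists_fm hS e _ ?_
  have key : ∀ q : W ⟶ T, S.g.hom.app (op W) (S.X₂.obj.map q.op t) = S.X₃.obj.map (q ≫ g).op z := fun q => by
    rw [← map_map, ← ht]
    exact NatTrans.naturality_apply S.g.hom q.op t
  rw [map_sub, key, key, hab, sub_self]

variable [HasFiniteProducts (Over V)]

/-- The cover as an object over the base. -/
abbrev cov : Over V := Over.mk g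

instance : IsAffine (cov g).left.left := ‹IsAffine T.left›

include hS ht in
/-- The cocycle of a local lift and its universal property. -/
theorem exists_cocycle :
    ∃ u : AmitsurAll.T Γ(V.left, ⊤) (GaAmitsur.Sec (cov g)) 1, IsUnit u ∧
      ∀ (Z : Over V) (f : Fin 2 → (Z ⟶ cov g)) (c : (EtCoh.Gm X).obj.obj (op Z.left)),
        IsDiff e t (f 0).left (f 1).left c →
          (show GaAmitsur.Sec Z from gv c) = AmitsurAll.lift (fun k => GaAmitsur.secMap (f k)) u := by
  let Y := cov g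
  obtain ⟨c₀, hc₀⟩ := exists_isDiff hS e g z t ht (GaAmitsur.qπ Y 1 0).left (GaAmitsur.qπ Y 1 1).left
    ((Over.w (GaAmitsur.qπ Y 1 0)).trans (Over.w (GaAmitsur.qπ Y 1 1)).symm)
  refine ⟨GaAmitsur.qSec Y 1 (gv c₀), (isUnit_gv c₀).map (GaAmitsur.qSec Y 1), fun Z f c hc => ?_⟩
  have h := hc₀.res (Pi.lift f ≫ GaAmitsur.τ Y 1).left
  rw [← Over.comp_left, ← Over.comp_left, pair_qπ, pair_qπ] at h
  rw [← secMap_pair, fm_injective hS e Z.left (hc.trans h.symm), gv_map]
  rfl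

variable (u : AmitsurAll.T Γ(V.left, ⊤) (GaAmitsur.Sec (cov g)) 1)
  (hform : ∀ (Z : Over V) (f : Fin 2 → (Z ⟶ cov g)) (c : (EtCoh.Gm X).obj.obj (op Z.left)),
    IsDiff e t (f 0).left (f 1).left c →
      (show GaAmitsur.Sec Z from gv c) = AmitsurAll.lift (fun k => GaAmitsur.secMap (f k)) u)

include hS ht hform in
/-- The cocycle identity. -/
theorem cocycle :
    AmitsurAll.lift (fun k => AmitsurAll.incl _ _ 2 (![0, 1] k)) u *
        AmitsurAll.lift (fun k => AmitsurAll.incl _ _ 2 (![1, 2] k)) u =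
      AmitsurAll.lift (fun k => AmitsurAll.incl Γ(V.left, ⊤) (GaAmitsur.Sec (cov g)) 2 (![0, 2] k)) u := by
  let Y := cov g
  let q := fun k => GaAmitsur.qπ Y 2 k
  have hw : ∀ i j, (q i).left ≫ g = (q j).left ≫ g := fun i j => (Over.w (q i)).trans (Over.w (q j)).symm
  have hd := fun i j : Fin 3 => exists_isDiff hS e g z t ht (q i).left (q j).left (hw i j)
  obtain ⟨d01, h01⟩ := hd 0 1
  obtain ⟨d12, h12⟩ := hd 1 2
  obtain ⟨d02, h02⟩ := hd 0 2
  have hadd : d01 + d12 = d02 := fm_injective hS e _ (by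
    rw [map_add, h01, h12, h02, sub_add_sub_cancel])
  have hsec : ∀ (s : Fin 2 → Fin 3) (c : (EtCoh.Gm X).obj.obj (op (GaAmitsur.Q Y 2).left)),
      IsDiff e t (q (s 0)).left (q (s 1)).left c → GaAmitsur.qSec Y 2 (gv c) =
        AmitsurAll.lift (fun k => AmitsurAll.incl Γ(V.left, ⊤) (GaAmitsur.Sec Y) 2 (s k)) u := by
    intro s c hc
    have h1 := hform (GaAmitsur.Q Y 2) (fun k => GaAmitsur.qπ Y 2 (s k)) c hc
    exact (congrArg (GaAmitsur.qSec Y 2) h1).trans (qSec_lift Y s u)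
  rw [← hsec ![0, 1] d01 h01, ← hsec ![1, 2] d12 h12, ← hsec ![0, 2] d02 h02, ← map_mul]
  exact congrArg (GaAmitsur.qSec Y 2) ((gv_add d01 d12).symm.trans (congrArg gv hadd))

include hform in
/-- A member of the descended module trivialises the cocycle. -/
theorem coboundary_of_mem (m : GaAmitsur.Sec (cov g))
    (hm : AmitsurAll.incl Γ(V.left, ⊤) _ 1 0 m = u * AmitsurAll.incl Γ(V.left, ⊤) _ 1 1 m)
    (W : X.Etale) (a b : W ⟶ T) (c : (EtCoh.Gm X).obj.obj (op W)) (hab : a ≫ g = b ≫ g)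
    (hc : IsDiff e t a b c) :
    a.left.appTop (show Γ(T.left, ⊤) from m) = gv c * b.left.appTop (show Γ(T.left, ⊤) from m) := by
  let Z : Over V := Over.mk (a ≫ g)
  let f : Fin 2 → (Z ⟶ cov g) := ![Over.homMk a rfl, Over.homMk b hab.symm]
  let L := AmitsurAll.lift (R := Γ(V.left, ⊤)) (A := GaAmitsur.Sec (cov g)) (n := 1)
    (S := GaAmitsur.Sec Z) fun k => GaAmitsur.secMap (f k)
  have h := congrArg L hm
  rw [map_mul, ← hform Z f c hc, AmitsurAll.lift_incl, AmitsurAll.lift_incl] at h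
  exact h

include hS ht e in
/-- Near every point of the cover the cocycle is the coboundary of one function. -/
theorem exists_coboundary [AlgebraicGeometry.Flat g.left] (y : T.left) :
    ∃ m : Γ(T.left, ⊤), y ∈ T.left.basicOpen m ∧
      ∀ (W : X.Etale) (a b : W ⟶ T) (c : (EtCoh.Gm X).obj.obj (op W)), a ≫ g = b ≫ g → IsDiff e t a b c →
        a.left.appTop m = gv c * b.left.appTop m := by
  haveI : Module.Flat Γ(V.left, ⊤) (GaAmitsur.Sec (cov g)) :=
    RingHom.flat_algebraMap_iff.1 ((HasRingHomProperty.iff_of_isAffine (P := @AlgebraicGeometry.Flat)).1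
      (inferInstanceAs (AlgebraicGeometry.Flat g.left)))
  obtain ⟨u, hu, hform⟩ := exists_cocycle hS e g z t ht
  have hspan := span_amitsur_eq_top u hu (cocycle hS e g z t ht u hform)
  obtain ⟨m, hm, hy⟩ : ∃ m : GaAmitsur.Sec (cov g),
      AmitsurAll.incl Γ(V.left, ⊤) _ 1 0 m = u * AmitsurAll.incl Γ(V.left, ⊤) _ 1 1 m ∧
        y ∈ T.left.basicOpen (show Γ(T.left, ⊤) from m) := by
    by_contra! hne
    have hle : Ideal.span {m : GaAmitsur.Sec (cov g) |
        AmitsurAll.incl Γ(V.left, ⊤) _ 1 0 m = u * AmitsurAll.incl Γ(V.left, ⊤) _ 1 1 m} ≤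
        (IsLocalRing.maximalIdeal (T.left.presheaf.stalk y)).comap
          (show GaAmitsur.Sec (cov g) →+* _ from (T.left.presheaf.germ ⊤ y trivial).hom) :=
      Ideal.span_le.2 fun m hm => (IsLocalRing.mem_maximalIdeal _).2 fun h =>
        hne m hm ((Scheme.mem_basicOpen_top T.left (show Γ(T.left, ⊤) from m) y).2 h)
    rw [hspan, top_le_iff, Ideal.comap_eq_top_iff] at hle
    exact Ideal.IsPrime.ne_top inferInstance hle
  exact ⟨m, hy, fun W a b c hab hc => coboundary_of_mem e g t u hform m hm W a b c hab hc⟩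

omit [IsAffine T.left] [HasFiniteProducts (Over V)] in
include hS e in
/-- Sections modulo `G_m` lift near every point. -/
theorem exists_lift_near (z : S.X₃.obj.obj (op V)) (x : V.left) :
    ∃ O : V.left.Opens, x ∈ O ∧ ∀ (W : X.Etale) (k : W ⟶ V), (∀ w, k.left.base w ∈ O) →
      ∃ y : S.X₂.obj.obj (op W), S.g.hom.app (op W) y = S.X₃.obj.map k.op z := by
  haveI := hS.epi_g
  haveI : HasFiniteProducts (Over V) := hasFiniteProducts_of_has_binary_and_terminal
  obtain ⟨T, g, t, hT, hg, ht⟩ := exists_affine_lift S.g z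
  haveI : AlgebraicGeometry.Etale g.left := etale_left g
  obtain ⟨y, rfl⟩ := hg.1 x
  obtain ⟨m, hy, hm⟩ := exists_coboundary hS e g z t ht y
  let D := T.left.basicOpen m
  let O : V.left.Opens := ⟨g.left.base '' D, g.left.isOpenMap _ D.isOpen⟩
  refine ⟨O, ⟨y, hy, rfl⟩, fun W k hk => ?_⟩
  haveI : AlgebraicGeometry.Etale T.hom := T.prop
  haveI : AlgebraicGeometry.Etale V.hom := V.prop
  let T' : X.Etale := Scheme.Etale.mk (D.ι ≫ T.hom)
  let i : T' ⟶ T := MorphismProperty.Over.homMk D.ι rfl trivial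
  let Ov : X.Etale := Scheme.Etale.mk (O.ι ≫ V.hom)
  let j : Ov ⟶ V := MorphismProperty.Over.homMk O.ι rfl trivial
  have hjmono : Mono j := ⟨fun a b h => MorphismProperty.Over.Hom.ext
    ((cancel_mono O.ι).1 (congrArg (fun q : _ ⟶ V => q.left) h))⟩
  obtain ⟨v, hv⟩ := exists_gv (W := T') (r := D.ι.appTop m) (by
    refine D.toScheme.toRingedSpace.isUnit_of_isUnit_germ ⊤ _ fun p hp => ?_
    refine (Scheme.mem_basicOpen_top D.toScheme _ p).1 ?_
    rw [← Scheme.preimage_basicOpen_top]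
    exact p.2)
  obtain ⟨gl, hgl⟩ := exists_lift_open O (D.ι ≫ g.left) fun p => ⟨p.1, p.2, rfl⟩
  let gO : T' ⟶ Ov := MorphismProperty.Over.homMk gl (by
    show gl ≫ O.ι ≫ V.hom = D.ι ≫ T.hom
    rw [← Category.assoc, hgl, Category.assoc, MorphismProperty.Over.w g]) trivial
  have hgO : gO ≫ j = i ≫ g := MorphismProperty.Over.Hom.ext hgl
  have hcov : ∀ p : Ov.left, ∃ (_ : PUnit.{1}) (q : T'.left), gO.left.base q = p := fun p => by
    obtain ⟨q, hq, hqp⟩ := p.2
    refine ⟨⟨⟩, ⟨q, hq⟩, Subtype.ext ?_⟩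
    exact ((Scheme.Hom.comp_apply gl O.ι _).symm.trans (congrArg (fun r => r.base ⟨q, hq⟩) hgl)).trans hqp
  let s : S.X₂.obj.obj (op T') := S.X₂.obj.map i.op t - (e.inv ≫ S.f).hom.app (op T') v
  have hcompat : ∀ ⦃Z : X.Etale⦄ (a b : Z ⟶ T'), a ≫ gO = b ≫ gO →
      S.X₂.obj.map a.op s = S.X₂.obj.map b.op s := by
    intro Z a b hab
    have hab' : (a ≫ i) ≫ g = (b ≫ i) ≫ g := by
      rw [Category.assoc, Category.assoc, ← hgO, ← Category.assoc, hab, Category.assoc]
    obtain ⟨c, hc⟩ := exists_isDiff hS e g z t ht (a ≫ i) (b ≫ i) hab'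
    have hmul := hm Z (a ≫ i) (b ≫ i) c hab' hc
    have hcv : (EtCoh.Gm X).obj.map a.op v = c + (EtCoh.Gm X).obj.map b.op v := gv_injective (by
      rw [gv_add, gv_map, gv_map, hv]
      exact hmul)
    have hn : ∀ q : Z ⟶ T', S.X₂.obj.map q.op ((e.inv ≫ S.f).hom.app (op T') v) =
        (e.inv ≫ S.f).hom.app (op Z) ((EtCoh.Gm X).obj.map q.op v) := fun q =>
      (NatTrans.naturality_apply (e.inv ≫ S.f).hom q.op v).symm
    simp only [s, map_sub, map_map, hn]
    rw [hcv, map_add, show (e.inv ≫ S.f).hom.app (op Z) c = _ from hc]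
    abel
  obtain ⟨y₀, hy₀, -⟩ := (Presieve.isSheafFor_arrows_iff _ _).1
    (isSheafFor_of_covers.{0} S.X₂ (fun _ : PUnit.{1} => T') (fun _ => gO) hcov) (fun _ => s)
    fun _ _ Z a b hab => hcompat a b hab
  have hy₁ : S.g.hom.app (op Ov) y₀ = S.X₃.obj.map j.op z := by
    refine (isSheafFor_of_covers.{0} S.X₃ (fun _ : PUnit.{1} => T') (fun _ => gO) hcov).isSeparatedFor.ext
      fun Z q hq => ?_
    obtain ⟨⟨⟩⟩ := hq
    show S.X₃.obj.map gO.op (S.g.hom.app (op Ov) y₀) = S.X₃.obj.map gO.op (S.X₃.obj.map j.op z)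
    rw [map_map, hgO, ← map_map, ← ht]
    refine (NatTrans.naturality_apply S.g.hom gO.op y₀).symm.trans ?_
    refine (congrArg _ (hy₀ ⟨⟩)).trans ?_
    rw [map_sub, g_fm, sub_zero]
    exact NatTrans.naturality_apply S.g.hom i.op t
  obtain ⟨kl, hkl⟩ := exists_lift_open O k.left hk
  let kO : W ⟶ Ov := MorphismProperty.Over.homMk kl (by
    show kl ≫ O.ι ≫ V.hom = W.hom
    rw [← Category.assoc, hkl, MorphismProperty.Over.w k]) trivial
  refine ⟨S.X₂.obj.map kO.op y₀, ?_⟩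
  refine (NatTrans.naturality_apply S.g.hom kO.op y₀).trans ?_
  rw [hy₁, map_map, show kO ≫ j = k from MorphismProperty.Over.Hom.ext hkl]

end Main

end Groth.Agent.EtGmH1
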